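import Mathlib
import Cfsg.Agent.Lib.Helper50.FOT.Defs

/-!
# FOT (S3999), package [SYL6]: a finite solvable group never has exactly six Sylow 5-subgroups
-/

set_option autoImplicit false

namespace Cfsg.Agent.Lib.Helper84.FOT

universe u

/-- If `N ⊔ A = ⊤` with `A` normal then `[G : N]` divides `|A|`. -/
theorem index_dvd_card_of_sup_eq_top {G : Type u} [Group G] [Finite G] (N A : Subgroup G)
    [A.Normal] (h : N ⊔ A = ⊤) : N.index ∣ Nat.card A := by
  have h1 : Nat.card A * A.index = Nat.card G := A.card_mul_index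
  have h2 : A.index = A.relIndex N := by
    rw [← Subgroup.relIndex_top_right, ← h, Subgroup.relIndex_sup_right]
  have h3 : Nat.card N * N.index = Nat.card G := N.card_mul_index
  have h4 : Nat.card (A.subgroupOf N) * A.relIndex N = Nat.card N :=
    (A.subgroupOf N).card_mul_index
  have h5 : A.relIndex N ≠ 0 := by
    rw [← h2]
    exact Subgroup.index_ne_zero_of_finite
  refine ⟨Nat.card (A.subgroupOf N), ?_⟩
  have h6 : Nat.card A * A.relIndex N = (N.index * Nat.card (A.subgroupOf N)) * A.relIndex N := by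
    rw [← h2, h1, ← h3, ← h4, h2]
    ring
  exact Nat.eq_of_mul_eq_mul_right (Nat.pos_of_ne_zero h5) h6

/-- A nontrivial finite solvable group has a nontrivial normal `q`-subgroup. -/
theorem exists_normal_pgroup (H : Type u) [Group H] [Finite H] [Nontrivial H]
    (hs : Group.IsSolvable H) :
    ∃ (q : ℕ) (A : Subgroup H), q.Prime ∧ A.Normal ∧ A ≠ ⊥ ∧ IsPGroup q A := by
  classical
  have hex : ∃ n, derivedSeries H n = ⊥ := (isSolvable_def H).mp hs
  have hm : derivedSeries H (Nat.find hex) = ⊥ := Nat.find_spec hex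
  have hm0 : Nat.find hex ≠ 0 := by
    intro h0
    rw [h0, derivedSeries_zero] at hm
    exact top_ne_bot hm
  obtain ⟨k, hk⟩ := Nat.exists_eq_succ_of_ne_zero hm0
  have hD : derivedSeries H k ≠ ⊥ := Nat.find_min hex (by omega : k < Nat.find hex)
  have hDn : (derivedSeries H k).Normal := derivedSeries_normal H k
  have hcomm : ⁅derivedSeries H k, derivedSeries H k⁆ = ⊥ := by
    rw [← derivedSeries_succ, ← Nat.succ_eq_add_one, ← hk]
    exact hm
  have hcent : derivedSeries H k ≤ Subgroup.centralizer (derivedSeries H k : Set H) :=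
    Subgroup.commutator_eq_bot_iff_le_centralizer.mp hcomm
  have hDcard : Nat.card (derivedSeries H k) ≠ 1 := by
    intro h1
    exact hD (Subgroup.card_eq_one.mp h1)
  obtain ⟨q, hq, hqd⟩ := Nat.exists_prime_and_dvd hDcard
  haveI := Fact.mk hq
  obtain ⟨x, hx⟩ := exists_prime_orderOf_dvd_card' q hqd
  let A : Subgroup H :=
    { carrier := {y | y ∈ derivedSeries H k ∧ y ^ q = 1}
      one_mem' := ⟨(derivedSeries H k).one_mem, one_pow q⟩
      mul_mem' := by
        rintro a b ⟨ha, ha'⟩ ⟨hb, hb'⟩
        refine ⟨(derivedSeries H k).mul_mem ha hb, ?_⟩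
        have hc : Commute a b := Subgroup.mem_centralizer_iff.mp (hcent hb) a ha
        rw [hc.mul_pow, ha', hb', one_mul]
      inv_mem' := by
        rintro a ⟨ha, ha'⟩
        exact ⟨(derivedSeries H k).inv_mem ha, by rw [inv_pow, ha', inv_one]⟩ }
  refine ⟨q, A, hq, ?_, ?_, ?_⟩
  · constructor
    rintro a ⟨ha, ha'⟩ g
    refine ⟨hDn.conj_mem a ha g, ?_⟩
    rw [conj_pow, ha', mul_one, mul_inv_cancel]
  · intro hA
    have hxA : (x : H) ∈ A := by
      refine ⟨x.2, ?_⟩
      have := pow_orderOf_eq_one x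
      rw [hx] at this
      have h2 := congrArg (Subtype.val) this
      simpa using h2
    rw [hA, Subgroup.mem_bot] at hxA
    have hx1 : x = 1 := Subtype.ext hxA
    rw [hx1, orderOf_one] at hx
    exact hq.one_lt.ne hx
  · rintro ⟨a, ha, ha'⟩
    refine ⟨1, ?_⟩
    apply Subtype.ext
    simpa using ha'

theorem syl6_aux : ∀ n : ℕ, ∀ (H : Type u) [Group H] [Finite H], Nat.card H = n →
    Group.IsSolvable H → Nat.card (Sylow 5 H) ≠ 6 := by
  intro n
  induction n using Nat.strong_induction_on with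
  | _ n ih =>
    intro H _ _ hcard hsol h6
    haveI : Fact (Nat.Prime 5) := ⟨by norm_num⟩
    haveI : Nontrivial H := by
      by_contra hnt
      rw [not_nontrivial_iff_subsingleton] at hnt
      have hss : Subsingleton (Sylow 5 H) :=
        ⟨fun P Q => Sylow.ext (Subsingleton.elim _ _)⟩
      have := Nat.card_of_subsingleton (Classical.arbitrary (Sylow 5 H))
      omega
    obtain ⟨q, A, hq, hAn, hAne, hAp⟩ := exists_normal_pgroup H hsol
    have := hAn
    have := Fact.mk hq
    have hlt : Nat.card (H ⧸ A) < n := by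
      have h1 := Subgroup.card_eq_card_quotient_mul_card_subgroup A
      have h2 : 1 < Nat.card A := by
        by_contra hle
        have hpos := Nat.card_pos (α := A)
        have h1' : Nat.card A = 1 := by omega
        exact hAne (Subgroup.card_eq_one.mp h1')
      have h3 : 0 < Nat.card (H ⧸ A) := Nat.card_pos
      rw [← hcard, h1]
      nlinarith
    haveI := hsol
    have hIH := ih _ hlt (H ⧸ A) rfl inferInstance
    obtain ⟨P⟩ : Nonempty (Sylow 5 H) := inferInstance
    have hsurj : Function.Surjective (QuotientGroup.mk' A) := QuotientGroup.mk'_surjective A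
    have hNle : Subgroup.normalizer (P : Set H) ≤
        (Subgroup.normalizer ((P.mapSurjective hsurj : Sylow 5 (H ⧸ A)) : Set (H ⧸ A))).comap
          (QuotientGroup.mk' A) := by
      rw [← Subgroup.map_le_iff_le_comap]
      exact Subgroup.le_normalizer_map _
    have hdvd : Nat.card (Sylow 5 (H ⧸ A)) ∣ 6 := by
      rw [← h6, Sylow.card_eq_index_normalizer P,
        Sylow.card_eq_index_normalizer (P.mapSurjective hsurj),
        ← Subgroup.index_comap_of_surjective _ hsurj]
      exact Subgroup.index_dvd_of_le hNle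
    have hmod : Nat.card (Sylow 5 (H ⧸ A)) ≡ 1 [MOD 5] := card_sylow_modEq_one 5 (H ⧸ A)
    have hone : Nat.card (Sylow 5 (H ⧸ A)) = 1 := by
      have hle : Nat.card (Sylow 5 (H ⧸ A)) ≤ 6 := Nat.le_of_dvd (by norm_num) hdvd
      unfold Nat.ModEq at hmod
      omega
    have hQn : ((P.mapSurjective hsurj : Sylow 5 (H ⧸ A)) : Subgroup (H ⧸ A)).Normal := by
      have hidx : (Subgroup.normalizer
          ((P.mapSurjective hsurj : Sylow 5 (H ⧸ A)) : Set (H ⧸ A))).index = 1 := by
        rw [← Sylow.card_eq_index_normalizer (P.mapSurjective hsurj)]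
        exact hone
      exact Subgroup.normalizer_eq_top_iff.mp (Subgroup.index_eq_one.mp hidx)
    haveI hBn : (((P.mapSurjective hsurj : Sylow 5 (H ⧸ A)) : Subgroup (H ⧸ A)).comap
        (QuotientGroup.mk' A)).Normal := hQn.comap _
    have hBeq : ((P.mapSurjective hsurj : Sylow 5 (H ⧸ A)) : Subgroup (H ⧸ A)).comap
        (QuotientGroup.mk' A) = (P : Subgroup H) ⊔ A := by
      rw [Sylow.coe_mapSurjective, Subgroup.comap_map_eq, QuotientGroup.ker_mk']
    have hPB : (P : Subgroup H) ≤ ((P.mapSurjective hsurj : Sylow 5 (H ⧸ A)) :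
        Subgroup (H ⧸ A)).comap (QuotientGroup.mk' A) := by
      rw [hBeq]
      exact le_sup_left
    have hfr := Sylow.normalizer_sup_eq_top' P hPB
    have hfr2 : Subgroup.normalizer (P : Set H) ⊔ A = ⊤ := by
      have hle : (P : Subgroup H) ≤ Subgroup.normalizer (P : Set H) := Subgroup.le_normalizer
      rw [hBeq, ← sup_assoc, sup_eq_left.mpr hle] at hfr
      exact hfr
    have hd := index_dvd_card_of_sup_eq_top _ A hfr2
    rw [← Sylow.card_eq_index_normalizer P, h6] at hd
    obtain ⟨m, hm⟩ := IsPGroup.iff_card.mp hAp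
    rw [hm] at hd
    have h2 : 2 ∣ q := Nat.Prime.dvd_of_dvd_pow Nat.prime_two ((by norm_num : 2 ∣ 6).trans hd)
    have h3 : 3 ∣ q := Nat.Prime.dvd_of_dvd_pow Nat.prime_three ((by norm_num : 3 ∣ 6).trans hd)
    have e2 : 2 = q := (Nat.prime_dvd_prime_iff_eq Nat.prime_two hq).mp h2
    have e3 : 3 = q := (Nat.prime_dvd_prime_iff_eq Nat.prime_three hq).mp h3
    omega

/-- [SYL6] -/
theorem pkgSyl6 : Cfsg.Agent.Lib.Helper50.FOT.PkgSyl6.{u} := by
  intro H _ _ hsol
  exact syl6_aux _ H rfl hsol

end Cfsg.Agent.Lib.Helper84.FOT
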